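import Cfsg.Prelude.Def_MonsterType
import Cfsg.Agent.H89.MonsterThree.Main

/-!
A three-central group of order three in a group of Monster type, in coordinates: its generator maps onto
the fixed element of order three of the first Conway group.
-/

set_option autoImplicit false
set_option maxHeartbeats 1000000

namespace Cfsg.Agent.H41.MonsterFi24

open Cfsg

theorem exists_data {G : Type*} [Group G] [Finite G] (z : G) (Q : Subgroup (Subgroup.centralizer ({z} : Set G))) [Q.Normal] (hM : Cfsg.IsOfMonsterType z Q) (s : G) (hsQ : ∃ hsc : s ∈ Subgroup.centralizer ({z} : Set G), (⟨s, hsc⟩ : Subgroup.centralizer ({z} : Set G)) ∈ Q) (hs : IsConj z s) (hs1 : s ≠ z) (Y : Subgroup G) (hY : Y ≤ Subgroup.centralizer ({z, s} : Set G)) (hY3 : Nat.card Y = 3) (hc : ∃ P : Sylow 3 ↥(Subgroup.centralizer ({z, s} : Set G)), Y.subgroupOf (Subgroup.centralizer ({z, s} : Set G)) ≤ (Subgroup.center ↥(P : Subgroup ↥(Subgroup.centralizer ({z, s} : Set G)))).map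 (P : Subgroup ↥(Subgroup.centralizer ({z, s} : Set G))).subtype) :
    ∃ (e : (Subgroup.centralizer ({z} : Set G)) ⧸ Q ≃* Cfsg.Spor.Co1)
      (ψ : Cfsg.leechLattice → Q ⧸ Subgroup.center Q),
      Cfsg.Agent.H92.MonsterQ.Setting z Q e ψ ∧
      ∃ (x : Q) (b : G) (hbz : b ∈ Subgroup.centralizer ({z} : Set G)),
        ψ (Cfsg.Agent.Golay.axisVec none) = QuotientGroup.mk x ∧ orderOf b = 3 ∧
        b * Cfsg.Agent.H92.MonsterQ.vG x = Cfsg.Agent.H92.MonsterQ.vG x * b ∧
        Cfsg.Agent.H65.MonsterFive.phi e ⟨b, hbz⟩ = QuotientGroup.mk Cfsg.Agent.H89.MonsterThree.three ∧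
        ¬ Cfsg.Agent.H65.MonsterThree.Noncentral
          (Subgroup.centralizer ({z, Cfsg.Agent.H92.MonsterQ.vG x} : Set G)) b ∧
        Subgroup.zpowers b = Y := by
  classical
  haveI : Fact (Nat.Prime 3) := ⟨by norm_num⟩
  obtain ⟨hS, e, ψ, hiso⟩ := hM
  have S : Cfsg.Agent.H92.MonsterQ.Setting z Q e ψ := ⟨hS, hiso⟩
  obtain ⟨hsc, hsq⟩ := hsQ
  set x : Q := ⟨⟨s, hsc⟩, hsq⟩ with hxdef
  have hxs : Cfsg.Agent.H92.MonsterQ.vG x = s := rfl
  obtain ⟨v, hv, hn64⟩ := Cfsg.Agent.H92.MonsterQ.conj_z_type S (x := x) hs hs1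
  obtain ⟨γ, hγ⟩ := Cfsg.Agent.H92.LeechTwo.orbit_sixtyfour hn64 (Cfsg.Agent.H92.LeechTwo.nrm_axis none)
  obtain ⟨e1, ψ1, S1, hψ1, -⟩ := Cfsg.Agent.H65.MonsterFive.twist S γ
  have hx1 : ψ1 (Cfsg.Agent.Golay.axisVec none) = QuotientGroup.mk x := by
    rw [← (Cfsg.Agent.H92.MonsterQ.psi_cg S1).2 hγ, hψ1, hv]
  have hYC : Y ≤ Subgroup.centralizer ({z} : Set G) := hY.trans (Subgroup.centralizer_le (by simp))
  obtain ⟨⟨b, hb⟩, hb1⟩ : ∃ b : Y, b ≠ 1 :=
    haveI : Nontrivial Y := Finite.one_lt_card_iff_nontrivial.1 (by rw [hY3]; norm_num)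
    exists_ne 1
  have hb1' : b ≠ 1 := fun h => hb1 (Subtype.ext h)
  have ho : orderOf b = 3 := by
    have h := Subgroup.orderOf_dvd_natCard Y hb
    rw [hY3] at h
    rcases (Nat.dvd_prime Nat.prime_three).1 h with h1 | h1
    · exact absurd (orderOf_eq_one_iff.1 h1) hb1'
    · exact h1
  have hzY : Subgroup.zpowers b = Y := Subgroup.eq_of_le_of_card_ge (Subgroup.zpowers_le.2 hb)
    (by rw [Nat.card_zpowers, ho, hY3])
  have hnon : ¬ Cfsg.Agent.H65.MonsterThree.Noncentral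
      (Subgroup.centralizer ({z, Cfsg.Agent.H92.MonsterQ.vG x} : Set G)) b := by
    intro hN
    rw [hxs] at hN
    set L := Subgroup.centralizer ({z, s} : Set G) with hL
    obtain ⟨P, hP⟩ := hc
    have hL27 : Nat.card (P : Subgroup L) = 27 := by
      have h2 := Cfsg.Agent.H92.MonsterCross.card_map_mul (Cfsg.Agent.H65.MonsterFive.phi e1)
        (L.subgroupOf (Subgroup.centralizer ({z} : Set G)))
      rw [hL, ← hxs, Cfsg.Agent.H65.MonsterFive.joint_image S1 hx1,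
        Cfsg.Agent.H92.MonsterCross.card_subgroupOf (Cfsg.Agent.H65.MonsterFive.joint_le x), hxs, ← hL] at h2
      have h3 := Cfsg.Agent.H92.MonsterCross.card_map_mul (QuotientGroup.mk' (Subgroup.center Co0))
        Cfsg.Agent.Golay.crossStab
      rw [QuotientGroup.ker_mk', inf_eq_right.2 (Cfsg.Agent.H92.LeechTwo.center_le_crossStab.trans
        Cfsg.Agent.H92.LeechTwo.signs_le), Cfsg.Agent.Golay.card_center_co0,
        Cfsg.Agent.Golay.card_crossStab] at h3
      have h4 : Nat.card ↥(L.subgroupOf (Subgroup.centralizer ({z} : Set G)) ⊓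
          (Cfsg.Agent.H65.MonsterFive.phi e1).ker) ∣ 2 ^ 25 := by
        rw [← hS.2.2.2.1]
        exact Subgroup.card_dvd_of_le (fun h hh => Cfsg.Agent.H65.MonsterFive.phi_eq_one.1
          (MonoidHom.mem_ker.1 hh.2))
      obtain ⟨k, -, hk⟩ := (Nat.dvd_prime_pow Nat.prime_two).1 h4
      rw [hk] at h2
      set M := Nat.card (Cfsg.Agent.Golay.crossStab.map (QuotientGroup.mk' (Subgroup.center Co0))) with hMdef
      rw [Sylow.card_eq_multiplicity, ← h2, Nat.factorization_mul (Nat.card_pos.ne')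
        (by positivity), Finsupp.add_apply,
        Nat.factorization_eq_zero_of_not_dvd (fun h =>
          absurd (Nat.Prime.dvd_of_dvd_pow Nat.prime_three h) (by norm_num)), add_zero]
      obtain ⟨m, hm, hm3⟩ : ∃ m, M = 27 * m ∧ ¬ 3 ∣ m := ⟨M / 27, by omega, by omega⟩
      rw [← hMdef, hm, Nat.factorization_mul (by norm_num) (by omega), Finsupp.add_apply,
        Nat.factorization_eq_zero_of_not_dvd hm3, add_zero, show (27 : ℕ) = 3 ^ 3 from rfl,
        Nat.Prime.factorization_pow Nat.prime_three, Finsupp.single_eq_same]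
    obtain ⟨y, ⟨w, hw, rfl⟩, hne⟩ := hN ((P : Subgroup L).map L.subtype)
      (Subgroup.map_subtype_le _)
      (by rw [Subgroup.card_map_of_injective Subtype.val_injective, hL27])
      (by
        obtain ⟨u, -, hu⟩ := hP (show (⟨b, hY hb⟩ : L) ∈ Y.subgroupOf L from hb)
        exact ⟨u, u.2, congrArg Subtype.val hu⟩)
    apply hne
    obtain ⟨u, hu, huv⟩ := hP (show (⟨b, hY hb⟩ : L) ∈ Y.subgroupOf L from hb)
    have h := congrArg (fun v : (P : Subgroup L) => ((v : L) : G)) (Subgroup.mem_center_iff.1 hu ⟨w, hw⟩)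
    simp only [Subgroup.coe_mul] at h
    rw [show ((u : L) : G) = b from congrArg Subtype.val huv] at h
    exact h.symm
  obtain ⟨γ2, hγ2, hγ2e⟩ := Cfsg.Agent.H89.MonsterThree.class_central S1 hx1 (hYC hb) (hY hb) ho hnon
  obtain ⟨e2, ψ2, S2, hψ2, he2⟩ := Cfsg.Agent.H65.MonsterFive.twist S1 γ2
  have hx2 : ψ2 (Cfsg.Agent.Golay.axisVec none) = QuotientGroup.mk x := by
    rw [← hx1, ← hψ2 (Cfsg.Agent.Golay.axisVec none)]
    exact ((Cfsg.Agent.H92.MonsterQ.psi_cg S2).2 (show Cfsg.Agent.H92.LeechTwo.Cg _ _ by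
      have := hγ2
      rwa [← Cfsg.Agent.H65.MonsterFive.classStab_none, Cfsg.Agent.H92.LeechTwo.mem_classStab] at this)).symm
  have hbe : Cfsg.Agent.H65.MonsterFive.phi e2 ⟨b, hYC hb⟩ =
      QuotientGroup.mk Cfsg.Agent.H89.MonsterThree.three := by
    rw [← hγ2e]
    show e2 (QuotientGroup.mk _) = _
    rw [he2]
    rfl
  have hbs : b * Cfsg.Agent.H92.MonsterQ.vG x = Cfsg.Agent.H92.MonsterQ.vG x * b :=
    (Subgroup.mem_centralizer_iff.1 (hY hb) s (by simp)).symm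
  exact ⟨e2, ψ2, S2, x, b, hYC hb, hx2, ho, hbs, hbe, hnon, hzY⟩

end Cfsg.Agent.H41.MonsterFi24
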