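import Cfsg.Agent.Components.Basic

/-!
A group with a central subgroup inside its commutator subgroup and simple non-commutative quotient is
quasisimple.
-/

set_option autoImplicit false
set_option linter.style.haveILetI false

open scoped commutatorElement

namespace Cfsg.Agent.H41.MonsterFi24

/-- A simple group whose order is even and larger than two is perfect. -/
theorem perfect_of_even {H : Type*} [Group H] [Finite H] [IsSimpleGroup H] (h2 : 2 ∣ Nat.card H)
    (h : 2 < Nat.card H) : commutator H = ⊤ := by
  rcases (inferInstance : (commutator H).Normal).eq_bot_or_eq_top with h0 | h0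
  · exfalso
    have hc : ∀ a b : H, a * b = b * a := fun a b => by
      have h1 : ⁅a, b⁆ ∈ commutator H := by
        rw [commutator_def]
        exact Subgroup.commutator_mem_commutator (Subgroup.mem_top a) (Subgroup.mem_top b)
      rw [h0, Subgroup.mem_bot] at h1
      exact commutatorElement_eq_one_iff_mul_comm.1 h1
    letI : CommGroup H := { (inferInstance : Group H) with mul_comm := hc }
    have hp := IsSimpleGroup.prime_card (α := H)
    rcases hp.eq_one_or_self_of_dvd 2 h2 with h3 | h3 <;> omega
  · exact h0

/-- The central extension criterion. -/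
theorem qs_of_quot {C : Type*} [Group C] (T : Subgroup C) [T.Normal] (hZ : T ≤ Subgroup.center C)
    (hT : T ≤ commutator C) [IsSimpleGroup (C ⧸ T)] (hp : commutator (C ⧸ T) = ⊤) :
    Cfsg.IsQuasisimple C := by
  have hC : commutator C = ⊤ := by
    rw [eq_top_iff]
    intro c _
    have h1 : (QuotientGroup.mk' T c) ∈ (commutator C).map (QuotientGroup.mk' T) := by
      rw [commutator_def, Subgroup.map_commutator,
        Subgroup.map_top_of_surjective _ (QuotientGroup.mk'_surjective T), ← commutator_def, hp]
      exact Subgroup.mem_top _
    have h2 : c ∈ ((commutator C).map (QuotientGroup.mk' T)).comap (QuotientGroup.mk' T) := h1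
    rw [Subgroup.comap_map_eq, QuotientGroup.ker_mk', sup_eq_left.2 hT] at h2
    exact h2
  have hperf : Group.IsPerfect C := ⟨hC⟩
  haveI : Nontrivial C := (QuotientGroup.mk'_surjective T).nontrivial
  refine Cfsg.Agent.Components.qs_of_perfect hperf fun N hN hne => ?_
  rcases (hN.map _ (QuotientGroup.mk'_surjective T)).eq_bot_or_eq_top with h0 | h0
  · rw [Subgroup.map_eq_bot_iff, QuotientGroup.ker_mk'] at h0
    exact h0.trans hZ
  · exfalso
    refine hne ?_
    haveI := hN
    have hsup : N ⊔ T = ⊤ := by
      have := congrArg (Subgroup.comap (QuotientGroup.mk' T)) h0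
      rwa [Subgroup.comap_map_eq, QuotientGroup.ker_mk', Subgroup.comap_top] at this
    rw [eq_top_iff, ← hC, commutator_def, Subgroup.commutator_le]
    intro a _ b _
    obtain ⟨n, hn, t, ht, rfl⟩ := Subgroup.mem_sup_of_normal_left.mp
      (show a ∈ N ⊔ T by rw [hsup]; trivial)
    rw [commutatorElement_mul_left_eq_conj_mul,
      commutatorElement_eq_one_iff_mul_comm.mpr (Subgroup.mem_center_iff.mp (hZ ht) b).symm]
    simp only [mul_one, mul_inv_cancel, one_mul]
    exact Subgroup.commutator_le_left N ⊤
      (Subgroup.commutator_mem_commutator hn (Subgroup.mem_top b))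

end Cfsg.Agent.H41.MonsterFi24
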