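import Cfsg.Agent.H41.MonsterFi24.Data
import Cfsg.Agent.H41.MonsterFi24.Quasi
import Cfsg.Agent.H89.MonsterFi24.Setting
import Cfsg.Agent.S5404
import Cfsg.Agent.S1715
import Cfsg.Agent.H25.Fi24.Simple

/-!
The centraliser and normaliser of the three-central group of order three in a group of Monster type.
-/

set_option autoImplicit false
set_option maxHeartbeats 1000000
set_option maxRecDepth 100000
set_option linter.style.haveILetI false

namespace Cfsg.Agent.H41.MonsterFi24

open Cfsg Cfsg.Agent.H92.MonsterQ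
open Cfsg.Agent.H65.MonsterFive (phi mem_centralizer_zpowers)

universe u

theorem recognises (X : Type u) [Group X] [Finite X] : Cfsg.Agent.H89.MonsterFi24.RecognisesM24 X :=
  fun G₀ hidx z hz Q N M _ _ _ hF hQ hcard hQN hNM hN K _ _ hK e hM hnwc hcentral hFX =>
    Cfsg.Agent.S5404.result G₀ hidx z hz Q N M hF hQ hcard hQN hNM hN K hK e hM hnwc hcentral hFX

/-- The three assertions for the group generated by one element. -/
theorem centralizer_facts {G : Type u} [Group G] [Finite G] {z : G}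
    {Q : Subgroup (Subgroup.centralizer ({z} : Set G))} [Q.Normal]
    {e : (Subgroup.centralizer ({z} : Set G)) ⧸ Q ≃* Spor.Co1}
    {ψ : Cfsg.leechLattice → Q ⧸ Subgroup.center Q}
    (S : Setting z Q e ψ) {x : Q}
    (hx : ψ (Cfsg.Agent.Golay.axisVec none) = QuotientGroup.mk x)
    {b : G} (hb3 : orderOf b = 3) (hbz : b ∈ Subgroup.centralizer ({z} : Set G))
    (hbs : b * vG x = vG x * b)
    (hbe : phi e ⟨b, hbz⟩ = QuotientGroup.mk Cfsg.Agent.H89.MonsterThree.three)
    (hnc : ¬ Cfsg.Agent.H65.MonsterThree.Noncentral (Subgroup.centralizer ({z, vG x} : Set G)) b)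
    [((Subgroup.zpowers b).subgroupOf (Subgroup.centralizer (Subgroup.zpowers b : Set G))).Normal]
    [((Subgroup.zpowers b).subgroupOf (Subgroup.normalizer (Subgroup.zpowers b : Set G))).Normal] :
    Cfsg.IsQuasisimple ↥(Subgroup.centralizer (Subgroup.zpowers b : Set G)) ∧
    Cfsg.Spor.IsoFi24' (↥(Subgroup.centralizer (Subgroup.zpowers b : Set G)) ⧸
      (Subgroup.zpowers b).subgroupOf (Subgroup.centralizer (Subgroup.zpowers b : Set G))) ∧
    ∃ E : Set (↥(Subgroup.normalizer (Subgroup.zpowers b : Set G)) ⧸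
      (Subgroup.zpowers b).subgroupOf (Subgroup.normalizer (Subgroup.zpowers b : Set G))),
      Cfsg.IsThreeTranspositionClass E ∧ Cfsg.IsOfTypeM24 _ E := by
  obtain ⟨hzC, R, hRn, hLF, -⟩ :=
    Cfsg.Agent.H89.MonsterThree.threeData S hx hb3 hbz hbs hbe hnc
  haveI := hRn
  obtain ⟨⟨hz2, hF, hex, hcard, hg⟩, N, M, hN, hM, hRN, hNM, hNc, ⟨K, iK, iF, hK, ⟨φ⟩⟩, hMi⟩ := hLF
  haveI := hN
  haveI := hM
  letI := iK
  letI := iF
  have hiso := Cfsg.Agent.S1715.result _ hz2 R N M hF hex hcard hRN hNM hNc K hK φ hMi hg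
  obtain ⟨G₀, -, -, E, hE, h24, -⟩ :=
    Cfsg.Agent.H89.MonsterFi24.normalizer_setting S hx hb3 hbz hbs hbe hnc (recognises _)
  refine ⟨?_, hiso, E, hE, h24⟩
  obtain ⟨ε⟩ := hiso
  set T := (Subgroup.zpowers b).subgroupOf (Subgroup.centralizer (Subgroup.zpowers b : Set G)) with hTdef
  haveI : IsSimpleGroup Cfsg.Spor.Fi24' := Cfsg.Agent.H25.Fi24.isSimple
  haveI : IsSimpleGroup (↥(Subgroup.centralizer (Subgroup.zpowers b : Set G)) ⧸ T) := ε.isSimpleGroup
  refine qs_of_quot T ?_ ?_ ?_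
  · intro t ht
    refine Subgroup.mem_center_iff.2 fun g => Subtype.ext ?_
    have h := Subgroup.mem_centralizer_iff.1 g.2 (t : G) ht
    exact h.symm
  · intro t ht
    obtain ⟨i, hi⟩ := Subgroup.mem_zpowers_iff.1 (show (t : G) ∈ Subgroup.zpowers b from ht)
    have hb := Cfsg.Agent.H89.MonsterFi24.mem_commutator S hb3 hbz hbe
    have e1 : t = ⟨b, mem_centralizer_zpowers.2 rfl⟩ ^ i := Subtype.ext hi.symm
    rw [e1]
    exact zpow_mem hb i
  · have hcardT : Nat.card (↥(Subgroup.centralizer (Subgroup.zpowers b : Set G)) ⧸ T) =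
        1255205709190661721292800 := by
      rw [Nat.card_congr ε.toEquiv]
      exact Cfsg.Agent.H25.Fi24.card_commutator
    exact perfect_of_even (by rw [hcardT]; norm_num) (by rw [hcardT]; norm_num)

end Cfsg.Agent.H41.MonsterFi24
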